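import Mathlib
import Cfsg.Prelude.Def_Spor_He
import Cfsg.Agent.SporadicB.HePerm.Data

/-! The permutation representation of the presented Held group on 2058 points. -/

set_option autoImplicit false

namespace Cfsg.Agent.SporadicB.HePerm

open Cfsg.Spor Cfsg.Spor.He

/-- bounded universal quantifier as a kernel-friendly loop -/
def allBelow (n : ℕ) (p : ℕ → Bool) : Bool :=
  Nat.rec true (fun k ih => and (p k) ih) n

theorem of_allBelow {p : ℕ → Bool} : ∀ {n : ℕ}, allBelow n p = true → ∀ i < n, p i = true := by
  intro n
  induction n with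
  | zero => intro _ i hi; exact absurd hi (Nat.not_lt_zero i)
  | succ k ih =>
    intro h i hi
    have h' : and (p k) (allBelow k p) = true := h
    rw [Bool.and_eq_true] at h'
    rcases Nat.lt_succ_iff_lt_or_eq.mp hi with h1 | h1
    · exact ih h'.2 i h1
    · rw [h1]; exact h'.1

/-- entry `i` of a table of 12-bit entries -/
def look (t i : ℕ) : ℕ := Nat.land (Nat.shiftRight t (Nat.mul 12 i)) 4095

/-- entry `i` of a table of 4-bit entries -/
def look4 (t i : ℕ) : ℕ := Nat.land (Nat.shiftRight t (Nat.mul 4 i)) 15

/-- image table of a generator -/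
def tab : Gen → ℕ
  | .a => Data.ta
  | .b => Data.tb
  | .c => Data.tc
  | .d => Data.td
  | .e => Data.te
  | .f => Data.tf
  | .g => Data.tg

/-- action of a word on a point, the last letter acts first -/
def act : List Gen → ℕ → ℕ
  | [], i => i
  | x :: w, i => look (tab x) (act w i)

theorem act_nil (i : ℕ) : act [] i = i := rfl
theorem act_cons (x : Gen) (w : List Gen) (i : ℕ) : act (x :: w) i = look (tab x) (act w i) := rfl

theorem act_append (v w : List Gen) (i : ℕ) : act (v ++ w) i = act v (act w i) := by
  induction v with
  | nil => rfl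
  | cons x v ih => rw [List.cons_append, act_cons, act_cons, ih]

/-- the list of all generators -/
def gens : List Gen := [.a, .b, .c, .d, .e, .f, .g]

theorem mem_gens (x : Gen) : x ∈ gens := by cases x <;> decide

theorem perm_check : allBelow 2058 (fun i => gens.all fun x =>
    and (Nat.blt (look (tab x) i) 2058) (Nat.beq (look (tab x) (look (tab x) i)) i)) = true := by
  decide +kernel

theorem look_lt (x : Gen) (i : ℕ) (hi : i < 2058) : look (tab x) i < 2058 := by
  have h := of_allBelow perm_check i hi
  rw [List.all_eq_true] at h
  have h2 := h x (mem_gens x)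
  rw [Bool.and_eq_true] at h2
  exact Nat.le_of_ble_eq_true h2.1

theorem look_look (x : Gen) (i : ℕ) (hi : i < 2058) : look (tab x) (look (tab x) i) = i := by
  have h := of_allBelow perm_check i hi
  rw [List.all_eq_true] at h
  have h2 := h x (mem_gens x)
  rw [Bool.and_eq_true] at h2
  exact Nat.eq_of_beq_eq_true h2.2

/-- the permutation of the 2058 points attached to a generator -/
def pm (x : Gen) : Equiv.Perm (Fin 2058) where
  toFun i := ⟨look (tab x) i, look_lt x i i.2⟩
  invFun i := ⟨look (tab x) i, look_lt x i i.2⟩
  left_inv i := Fin.ext (look_look x i i.2)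
  right_inv i := Fin.ext (look_look x i i.2)

theorem pm_apply (x : Gen) (i : Fin 2058) : ((pm x i : Fin 2058) : ℕ) = look (tab x) i := rfl

theorem prod_apply (w : List Gen) (i : Fin 2058) : (((w.map pm).prod i : Fin 2058) : ℕ) = act w i := by
  induction w with
  | nil => rfl
  | cons x w ih =>
    rw [List.map_cons, List.prod_cons, Equiv.Perm.mul_apply, pm_apply, ih, act_cons]

theorem act_lt (w : List Gen) (i : ℕ) (hi : i < 2058) : act w i < 2058 := by
  have := prod_apply w ⟨i, hi⟩
  rw [← this]
  exact Fin.is_lt _

theorem prod_eq_one {w : List Gen} (h : ∀ i < 2058, act w i = i) : (w.map pm).prod = 1 := by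
  apply Equiv.ext
  intro i
  apply Fin.ext
  rw [prod_apply, h i i.2]
  rfl

/-- the word `(x y)^n` -/
def powWord (w : List Gen) : ℕ → List Gen
  | 0 => []
  | n + 1 => w ++ powWord w n

theorem powWord_prod {M : Type*} [Monoid M] (f : Gen → M) (w : List Gen) (n : ℕ) :
    ((powWord w n).map f).prod = (w.map f).prod ^ n := by
  induction n with
  | zero => rw [pow_zero]; rfl
  | succ n ih =>
    show ((w ++ powWord w n).map f).prod = _
    rw [List.map_append, List.prod_append, ih, pow_succ']

/-- check that a word acts trivially -/
def good (w : List Gen) : Bool := allBelow 2058 (fun i => Nat.beq (act w i) i)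

theorem of_good {w : List Gen} (h : good w = true) : (w.map pm).prod = 1 :=
  prod_eq_one fun i hi => Nat.eq_of_beq_eq_true (of_allBelow h i hi)

theorem cox_check : (gens.all fun x => gens.all fun y => good (powWord [x, y] (coxLabel edges x y))) = true := by
  decide +kernel

theorem cox_rel (x y : Gen) : (pm x * pm y) ^ coxLabel edges x y = 1 := by
  have h := cox_check
  rw [List.all_eq_true] at h
  have h1 := h x (mem_gens x)
  rw [List.all_eq_true] at h1
  have h2 := of_good (h1 y (mem_gens y))
  rw [powWord_prod] at h2
  simpa using h2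

/-- the words of the extra relators -/
def extraWords : List (List Gen) :=
  [.e :: powWord [.f, .g] 2, .e :: powWord [.a, .b, .c] 3, .a :: powWord [.c, .d] 5, powWord [.c, .d, .f, .g] 4]

theorem extra_check : (extraWords.all fun w => good w) = true := by decide +kernel

theorem pm_mul_self (x : Gen) : pm x * pm x = 1 := by
  apply Equiv.ext
  intro i
  apply Fin.ext
  exact look_look x i i.2

theorem pm_inv (x : Gen) : (pm x)⁻¹ = pm x := by
  rw [inv_eq_iff_mul_eq_one, pm_mul_self]

theorem extra_rel {w : List Gen} (hw : w ∈ extraWords) : (w.map pm).prod = 1 := by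
  have h := extra_check
  rw [List.all_eq_true] at h
  exact of_good (h w hw)

theorem rel1 : pm .e * (pm .f * pm .g) ^ 2 = 1 := by
  have h := extra_rel (w := .e :: powWord [.f, .g] 2) (by simp [extraWords])
  rw [List.map_cons, List.prod_cons, powWord_prod] at h
  simpa using h

theorem rel2 : pm .e * (pm .a * pm .b * pm .c) ^ 3 = 1 := by
  have h := extra_rel (w := .e :: powWord [.a, .b, .c] 3) (by simp [extraWords])
  rw [List.map_cons, List.prod_cons, powWord_prod] at h
  simpa [mul_assoc] using h

theorem rel3 : pm .a * (pm .c * pm .d) ^ 5 = 1 := by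
  have h := extra_rel (w := .a :: powWord [.c, .d] 5) (by simp [extraWords])
  rw [List.map_cons, List.prod_cons, powWord_prod] at h
  simpa using h

theorem rel4 : (pm .c * pm .d * pm .f * pm .g) ^ 4 = 1 := by
  have h := extra_rel (w := powWord [.c, .d, .f, .g] 4) (by simp [extraWords])
  rw [powWord_prod] at h
  simpa [mul_assoc] using h

/-- All relators of the presented Held group act trivially. -/
theorem lift_eq_one : ∀ r ∈ coxRelators edges ∪ {r | r ∈ extra}, FreeGroup.lift pm r = 1 := by
  rintro r (⟨x, -, y, -, rfl⟩ | hr)
  · rw [map_pow, map_mul, FreeGroup.lift_apply_of, FreeGroup.lift_apply_of]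
    exact cox_rel x y
  · have hr' : r ∈ extra := hr
    have he : ∀ q : Equiv.Perm (Fin 2058), pm .e * q = 1 → pm .e * q⁻¹ = 1 := by
      intro q hq
      have : q = pm .e := by rw [← pm_inv Gen.e]; exact (inv_eq_of_mul_eq_one_right hq).symm
      rw [this, mul_inv_cancel]
    have ha : ∀ q : Equiv.Perm (Fin 2058), pm .a * q = 1 → pm .a * q⁻¹ = 1 := by
      intro q hq
      have : q = pm .a := by rw [← pm_inv Gen.a]; exact (inv_eq_of_mul_eq_one_right hq).symm
      rw [this, mul_inv_cancel]
    simp only [extra, List.mem_cons, List.not_mem_nil, or_false] at hr'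
    rcases hr' with rfl | rfl | rfl | rfl
    · simp only [map_mul, map_inv, map_pow, FreeGroup.lift_apply_of]
      exact he _ rel1
    · simp only [map_mul, map_inv, map_pow, FreeGroup.lift_apply_of]
      exact he _ rel2
    · simp only [map_mul, map_inv, map_pow, FreeGroup.lift_apply_of]
      exact ha _ rel3
    · simp only [map_mul, map_pow, FreeGroup.lift_apply_of]
      exact rel4

/-- The permutation representation of the presented Held group on 2058 points. -/
noncomputable def phi : Cfsg.Spor.He →* Equiv.Perm (Fin 2058) := PresentedGroup.toGroup lift_eq_one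

theorem phi_of (x : Gen) : phi (PresentedGroup.of x) = pm x := PresentedGroup.toGroup.of lift_eq_one

/-- the element of the presented group given by a word -/
def wd (w : List Gen) : Cfsg.Spor.He := (w.map PresentedGroup.of).prod

theorem phi_wd (w : List Gen) : phi (wd w) = (w.map pm).prod := by
  unfold wd
  rw [map_list_prod, List.map_map]
  congr 1

theorem phi_wd_apply (w : List Gen) (i : Fin 2058) : ((phi (wd w) i : Fin 2058) : ℕ) = act w i := by
  rw [phi_wd, prod_apply]

end Cfsg.Agent.SporadicB.HePerm
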