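import Mathlib
import Cfsg.Agent.SporadicB.HePerm.Rep

/-! Orbits, stabiliser chain and order bound for the permutation representation of the Held group on 2058 points. -/

set_option autoImplicit false

namespace Cfsg.Agent.SporadicB.HePerm

open Cfsg.Spor Cfsg.Spor.He

/-- the `k`-th word of a list -/
def nth : List (List Gen) → ℕ → List Gen
  | [], _ => []
  | w :: l, k => Nat.rec w (fun j _ => nth l j) k

theorem nth_mem (l : List (List Gen)) (k : ℕ) : nth l k ∈ l ∨ nth l k = [] := by
  induction l generalizing k with
  | nil => exact Or.inr rfl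
  | cons w l ih =>
    cases k with
    | zero => left; show w ∈ w :: l; exact List.mem_cons_self
    | succ j =>
      show nth l j ∈ w :: l ∨ nth l j = []
      rcases ih j with h | h
      · exact Or.inl (List.mem_cons_of_mem _ h)
      · exact Or.inr h

/-- certificate check for one orbit stored at positions `base, …, base + n - 1` -/
def treeCheck (ws : List (List Gen)) (ord par gen pos base n : ℕ) : Bool :=
  allBelow n fun k =>
    and (and (Nat.blt (look ord (base + k)) 2058) (Nat.beq (look pos (look ord (base + k))) (base + k)))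
      (or (Nat.beq k 0) (and (and (Nat.ble base (look par (base + k))) (Nat.blt (look par (base + k)) (base + k)))
        (Nat.beq (act (nth ws (look4 gen (base + k))) (look ord (look par (base + k)))) (look ord (base + k)))))

section tree

variable {ws : List (List Gen)} {ord par gen pos base n : ℕ}

theorem tree_lt (h : treeCheck ws ord par gen pos base n = true) (k : ℕ) (hk : k < n) :
    look ord (base + k) < 2058 := by
  have h1 := of_allBelow h k hk
  rw [Bool.and_eq_true, Bool.and_eq_true] at h1
  exact Nat.le_of_ble_eq_true h1.1.1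

theorem tree_pos (h : treeCheck ws ord par gen pos base n = true) (k : ℕ) (hk : k < n) :
    look pos (look ord (base + k)) = base + k := by
  have h1 := of_allBelow h k hk
  rw [Bool.and_eq_true, Bool.and_eq_true] at h1
  exact Nat.eq_of_beq_eq_true h1.1.2

theorem tree_inj (h : treeCheck ws ord par gen pos base n = true) {k l : ℕ} (hk : k < n) (hl : l < n)
    (hkl : look ord (base + k) = look ord (base + l)) : k = l := by
  have h1 := tree_pos h k hk
  have h2 := tree_pos h l hl
  rw [hkl, h2] at h1
  omega

theorem tree_reach (h : treeCheck ws ord par gen pos base n = true) (H : Subgroup (Equiv.Perm (Fin 2058)))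
    (hH : ∀ w ∈ ws, (w.map pm).prod ∈ H) :
    ∀ k, (hk : k < n) → ∃ p ∈ H, p (Fin.ofNat 2058 (look ord base)) = ⟨look ord (base + k), tree_lt h k hk⟩ := by
  intro k
  induction k using Nat.strong_induction_on with
  | _ k ih =>
    intro hk
    have h1 := of_allBelow h k hk
    rw [Bool.and_eq_true, Bool.or_eq_true] at h1
    rcases h1.2 with h2 | h2
    · have hk0 : k = 0 := Nat.eq_of_beq_eq_true h2
      subst hk0
      refine ⟨1, H.one_mem, ?_⟩
      apply Fin.ext
      have h3 := tree_lt h 0 hk
      show look ord base % 2058 = look ord (base + 0)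
      rw [Nat.add_zero] at h3 ⊢
      exact Nat.mod_eq_of_lt h3
    · rw [Bool.and_eq_true, Bool.and_eq_true] at h2
      have h3 : base ≤ look par (base + k) := Nat.le_of_ble_eq_true h2.1.1
      have h4 : look par (base + k) < base + k := Nat.le_of_ble_eq_true h2.1.2
      have h5 := Nat.eq_of_beq_eq_true h2.2
      obtain ⟨l, hl⟩ : ∃ l, look par (base + k) = base + l := ⟨look par (base + k) - base, by omega⟩
      have hlk : l < k := by omega
      obtain ⟨p, hp, hpe⟩ := ih l hlk (by omega)
      refine ⟨((nth ws (look4 gen (base + k))).map pm).prod * p, H.mul_mem ?_ hp, ?_⟩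
      · rcases nth_mem ws (look4 gen (base + k)) with h6 | h6
        · exact hH _ h6
        · rw [h6]; exact H.one_mem
      · rw [Equiv.Perm.mul_apply, hpe]
        apply Fin.ext
        rw [prod_apply]
        show act _ (look ord (base + l)) = look ord (base + k)
        rw [← hl]
        exact h5

/-- the set of points of one orbit -/
def pts (h : treeCheck ws ord par gen pos base n = true) : Finset (Fin 2058) :=
  (Finset.univ : Finset (Fin n)).image fun k : Fin n => ⟨look ord (base + (k : ℕ)), tree_lt h k k.2⟩

theorem card_pts (h : treeCheck ws ord par gen pos base n = true) : (pts h).card = n := by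
  unfold pts
  rw [Finset.card_image_of_injective, Finset.card_univ, Fintype.card_fin]
  intro k l hkl
  apply Fin.ext
  apply tree_inj h k.2 l.2
  exact congrArg Fin.val hkl

theorem reach_pts (h : treeCheck ws ord par gen pos base n = true) (H : Subgroup (Equiv.Perm (Fin 2058)))
    (hH : ∀ w ∈ ws, (w.map pm).prod ∈ H) :
    ∀ y ∈ pts h, ∃ p ∈ H, p (Fin.ofNat 2058 (look ord base)) = y := by
  intro y hy
  unfold pts at hy
  rw [Finset.mem_image] at hy
  obtain ⟨k, -, rfl⟩ := hy
  exact tree_reach h H hH k k.2

end tree

/-- one step of a stabiliser chain estimate -/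
theorem chain_step {X : Type*} [Finite X] (H K : Subgroup (Equiv.Perm X)) (x : X) (O : Finset X)
    (hO : ∀ y ∈ O, ∃ h ∈ H, h x = y) (hK : K ≤ H) (hKx : ∀ k ∈ K, k x = x) :
    O.card * Nat.card K ≤ Nat.card H := by
  classical
  choose! f hf using hO
  have hle : Nat.card (O × K) ≤ Nat.card H := by
    apply Nat.card_le_card_of_injective (fun p : O × K => (⟨f p.1 * p.2, H.mul_mem (hf p.1 p.1.2).1 (hK p.2.2)⟩ : H))
    rintro ⟨⟨y, hy⟩, ⟨k, hk⟩⟩ ⟨⟨z, hz⟩, ⟨l, hl⟩⟩ h
    have h1 : f y * k = f z * l := congrArg Subtype.val h
    have h2 : y = z := by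
      have h3 := congrArg (fun p : Equiv.Perm X => p x) h1
      simp only [Equiv.Perm.mul_apply] at h3
      rw [hKx k hk, hKx l hl, (hf y hy).2, (hf z hz).2] at h3
      exact h3
    subst h2
    have h4 : k = l := mul_left_cancel h1
    subst h4
    rfl
  rw [Nat.card_prod] at hle
  have hc : Nat.card O = O.card := Nat.card_eq_card_toFinset (O : Set X) |>.trans (by simp)
  rwa [hc] at hle

/-- words generating the whole group -/
def wordsG : List (List Gen) := [[.a], [.b], [.c], [.d], [.e], [.f], [.g]]

/-- the word `b c d e` to the seventh power -/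
def wh : List Gen := powWord [.b, .c, .d, .e] 7

/-- words generating the point stabiliser -/
def wordsK : List (List Gen) := [[.a], [.c], [.d], [.e], [.f], [.a, .b, .a, .b], wh]

/-- words generating the stabiliser of the points 0 and 1 -/
def wordsL : List (List Gen) := [[.a], [.d], [.e], [.f], [.a, .b, .a, .b], wh]

/-- words generating the stabiliser of the points 0, 1, 32 -/
def wordsM : List (List Gen) := [[.a], [.d, .e, .d, .a, .b, .a, .b]]

theorem treeG : treeCheck wordsG Data.gOrd Data.gPar Data.gGen Data.gPos 0 2058 = true := by decide +kernel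

theorem treeK0 : treeCheck wordsK Data.kOrd Data.kPar Data.kGen Data.kPos 0 1 = true := by decide +kernel
theorem treeK1 : treeCheck wordsK Data.kOrd Data.kPar Data.kGen Data.kPos 1 1360 = true := by decide +kernel
theorem treeK2 : treeCheck wordsK Data.kOrd Data.kPar Data.kGen Data.kPos 1361 425 = true := by decide +kernel
theorem treeK3 : treeCheck wordsK Data.kOrd Data.kPar Data.kGen Data.kPos 1786 136 = true := by decide +kernel
theorem treeK4 : treeCheck wordsK Data.kOrd Data.kPar Data.kGen Data.kPos 1922 136 = true := by decide +kernel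

theorem treeL : treeCheck wordsL Data.lOrd Data.lPar Data.lGen Data.lPos 0 360 = true := by decide +kernel
theorem treeM : treeCheck wordsM Data.mOrd Data.mPar Data.mGen Data.mPos 0 4 = true := by decide +kernel

theorem fixK : (wordsK.all fun w => Nat.beq (act w 0) 0) = true := by decide +kernel
theorem fixL : (wordsL.all fun w => and (Nat.beq (act w 0) 0) (Nat.beq (act w 1) 1)) = true := by decide +kernel
theorem fixM : (wordsM.all fun w => and (Nat.beq (act w 0) 0) (and (Nat.beq (act w 1) 1) (Nat.beq (act w 32) 32)))
    = true := by decide +kernel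

theorem ordG0 : look Data.gOrd 0 = 0 := by decide +kernel
theorem ordK1 : look Data.kOrd 1 = 1 := by decide +kernel
theorem ordL0 : look Data.lOrd 0 = 32 := by decide +kernel
theorem ordM0 : look Data.mOrd 0 = 8 := by decide +kernel

/-- the image of the presented Held group, generated by the seven permutations -/
theorem prod_mem_range (w : List Gen) : (w.map pm).prod ∈ phi.range := ⟨wd w, phi_wd w⟩

theorem fix_of_act {w : List Gen} {i : ℕ} (hi : i < 2058) (h : act w i = i) :
    (w.map pm).prod ⟨i, hi⟩ = ⟨i, hi⟩ := by
  apply Fin.ext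
  rw [prod_apply]
  exact h

/-- stabiliser of a point in the full symmetric group -/
def fixer (i : Fin 2058) : Subgroup (Equiv.Perm (Fin 2058)) := MulAction.stabilizer (Equiv.Perm (Fin 2058)) i

theorem mem_fixer {i : Fin 2058} {p : Equiv.Perm (Fin 2058)} : p ∈ fixer i ↔ p i = i := Iff.rfl

/-- Order estimate from the stabiliser chain, valid for every group of permutations of the 2058 points with the
stated elements: (`H` contains the seven generators). -/
theorem card_range_ge : 4030387200 ≤ Nat.card phi.range := by
  set H0 : Subgroup (Equiv.Perm (Fin 2058)) := phi.range with hH0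
  set H1 := H0 ⊓ fixer 0 with hH1
  set H2 := H1 ⊓ fixer 1 with hH2
  set H3 := H2 ⊓ fixer 32 with hH3
  have hK := fixK
  have hL := fixL
  have hM := fixM
  rw [List.all_eq_true] at hK hL hM
  have e0 : Fin.ofNat 2058 (look Data.gOrd 0) = (0 : Fin 2058) := by rw [ordG0]; rfl
  have e1 : Fin.ofNat 2058 (look Data.kOrd 1) = (1 : Fin 2058) := by rw [ordK1]; rfl
  have e2 : Fin.ofNat 2058 (look Data.lOrd 0) = (32 : Fin 2058) := by rw [ordL0]; rfl
  have e3 : Fin.ofNat 2058 (look Data.mOrd 0) = (8 : Fin 2058) := by rw [ordM0]; rfl
  have s0 : 2058 * Nat.card H1 ≤ Nat.card H0 := by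
    refine le_trans (Nat.mul_le_mul_right _ (card_pts treeG).ge) ?_
    apply chain_step H0 H1 (0 : Fin 2058) _ _ inf_le_left
    · intro k hk; exact mem_fixer.mp hk.2
    · intro y hy
      have := reach_pts treeG H0 (fun w _ => prod_mem_range w) y hy
      rwa [e0] at this
  have s1 : 1360 * Nat.card H2 ≤ Nat.card H1 := by
    refine le_trans (Nat.mul_le_mul_right _ (card_pts treeK1).ge) ?_
    apply chain_step H1 H2 (1 : Fin 2058) _ _ inf_le_left
    · intro k hk; exact mem_fixer.mp hk.2
    · intro y hy
      have := reach_pts treeK1 H1 (fun w hw => ⟨prod_mem_range w,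
        mem_fixer.mpr (fix_of_act (by norm_num) (Nat.eq_of_beq_eq_true (hK w hw)))⟩) y hy
      rwa [e1] at this
  have s2 : 360 * Nat.card H3 ≤ Nat.card H2 := by
    refine le_trans (Nat.mul_le_mul_right _ (card_pts treeL).ge) ?_
    apply chain_step H2 H3 (32 : Fin 2058) _ _ inf_le_left
    · intro k hk; exact mem_fixer.mp hk.2
    · intro y hy
      have := reach_pts treeL H2 (fun w hw => by
        have h := hL w hw
        rw [Bool.and_eq_true] at h
        exact ⟨⟨prod_mem_range w, mem_fixer.mpr (fix_of_act (by norm_num) (Nat.eq_of_beq_eq_true h.1))⟩,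
          mem_fixer.mpr (fix_of_act (by norm_num) (Nat.eq_of_beq_eq_true h.2))⟩) y hy
      rwa [e2] at this
  have s3 : 4 * Nat.card (⊥ : Subgroup (Equiv.Perm (Fin 2058))) ≤ Nat.card H3 := by
    refine le_trans (Nat.mul_le_mul_right _ (card_pts treeM).ge) ?_
    apply chain_step H3 ⊥ (8 : Fin 2058) _ _ bot_le
    · intro k hk
      rw [Subgroup.mem_bot] at hk
      rw [hk]; rfl
    · intro y hy
      have := reach_pts treeM H3 (fun w hw => by
        have h := hM w hw
        rw [Bool.and_eq_true, Bool.and_eq_true] at h
        exact ⟨⟨⟨prod_mem_range w, mem_fixer.mpr (fix_of_act (by norm_num) (Nat.eq_of_beq_eq_true h.1))⟩,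
          mem_fixer.mpr (fix_of_act (by norm_num) (Nat.eq_of_beq_eq_true h.2.1))⟩,
          mem_fixer.mpr (fix_of_act (by norm_num) (Nat.eq_of_beq_eq_true h.2.2))⟩) y hy
      rwa [e3] at this
  have hb : Nat.card (⊥ : Subgroup (Equiv.Perm (Fin 2058))) = 1 := Subgroup.card_bot
  rw [hb] at s3
  omega

end Cfsg.Agent.SporadicB.HePerm
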