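import Mathlib
import Cfsg.Agent.SporadicB.HePerm.Orbits

/-! The permutation group of degree 2058 generated by the images of the generators of the presented Held group is
simple if its order is 4030387200. -/

set_option autoImplicit false

namespace Cfsg.Agent.SporadicB.HePerm

open Cfsg.Spor Cfsg.Spor.He

theorem posCheck : allBelow 2058 (fun i => and (Nat.blt (look Data.kPos i) 2058)
    (Nat.beq (look Data.kOrd (look Data.kPos i)) i)) = true := by decide +kernel

/-- suborbit number of a point given by its position -/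
def ivl (k : ℕ) : ℕ :=
  cond (Nat.blt k 1) 0 (cond (Nat.blt k 1361) 1 (cond (Nat.blt k 1786) 2 (cond (Nat.blt k 1922) 3 4)))

/-- suborbit number of a point -/
def lab (i : Fin 2058) : ℕ := ivl (look Data.kPos i)

theorem ivl_eq (k : ℕ) : ivl k = if k < 1 then 0 else if k < 1361 then 1 else if k < 1786 then 2 else
    if k < 1922 then 3 else 4 := by
  have h : ∀ a b : ℕ, Nat.blt a b = decide (a < b) := by
    intro a b
    by_cases hab : a < b
    · rw [decide_eq_true hab]; exact Nat.ble_eq_true_of_le hab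
    · rw [decide_eq_false hab]
      exact Bool.eq_false_iff.mpr fun h => hab (Nat.le_of_ble_eq_true h)
  unfold ivl
  simp only [h, Bool.cond_decide]

theorem pos_lt (i : Fin 2058) : look Data.kPos i < 2058 := by
  have h := of_allBelow posCheck i i.2
  rw [Bool.and_eq_true] at h
  exact Nat.le_of_ble_eq_true h.1

theorem ord_pos (i : Fin 2058) : look Data.kOrd (look Data.kPos i) = i := by
  have h := of_allBelow posCheck i i.2
  rw [Bool.and_eq_true] at h
  exact Nat.eq_of_beq_eq_true h.2

theorem mem_pts {base n : ℕ} {ws : List (List Gen)}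
    (h : treeCheck ws Data.kOrd Data.kPar Data.kGen Data.kPos base n = true) (i : Fin 2058) :
    i ∈ pts h ↔ base ≤ look Data.kPos i ∧ look Data.kPos i < base + n := by
  unfold pts
  rw [Finset.mem_image]
  constructor
  · rintro ⟨k, -, rfl⟩
    have h1 := tree_pos h k k.2
    show base ≤ look Data.kPos (look Data.kOrd (base + k)) ∧ look Data.kPos (look Data.kOrd (base + k)) < base + n
    rw [h1]
    have := k.2
    omega
  · rintro ⟨h1, h2⟩
    refine ⟨⟨look Data.kPos i - base, by omega⟩, Finset.mem_univ _, ?_⟩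
    apply Fin.ext
    show look Data.kOrd (base + (look Data.kPos i - base)) = i
    rw [Nat.add_sub_cancel' h1, ord_pos]

/-- the five suborbits -/
def sub : ℕ → Finset (Fin 2058)
  | 0 => pts treeK0
  | 1 => pts treeK1
  | 2 => pts treeK2
  | 3 => pts treeK3
  | 4 => pts treeK4
  | _ => ∅

/-- the suborbit lengths -/
def siz : ℕ → ℕ
  | 0 => 1
  | 1 => 1360
  | 2 => 425
  | 3 => 136
  | 4 => 136
  | _ => 0

/-- the suborbit representatives -/
def root : ℕ → Fin 2058
  | 0 => 0
  | 1 => 1
  | 2 => 8
  | 3 => 37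
  | 4 => 218
  | _ => 0

theorem card_sub (j : ℕ) : (sub j).card = siz j := by
  match j with
  | 0 => exact card_pts treeK0
  | 1 => exact card_pts treeK1
  | 2 => exact card_pts treeK2
  | 3 => exact card_pts treeK3
  | 4 => exact card_pts treeK4
  | (_ + 5) => rfl

theorem mem_sub (j : ℕ) (hj : j < 5) (i : Fin 2058) : i ∈ sub j ↔ lab i = j := by
  have hp := pos_lt i
  unfold lab
  rw [ivl_eq]
  interval_cases j
  · rw [show sub 0 = pts treeK0 from rfl, mem_pts]
    split_ifs <;> refine ⟨?_, ?_⟩
    all_goals first | (rintro ⟨h1, h2⟩; omega) | (intro h1; exact False.elim h1) | (intro h1; omega)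
  · rw [show sub 1 = pts treeK1 from rfl, mem_pts]
    split_ifs <;> refine ⟨?_, ?_⟩
    all_goals first | (rintro ⟨h1, h2⟩; omega) | (intro h1; exact False.elim h1) | (intro h1; omega)
  · rw [show sub 2 = pts treeK2 from rfl, mem_pts]
    split_ifs <;> refine ⟨?_, ?_⟩
    all_goals first | (rintro ⟨h1, h2⟩; omega) | (intro h1; exact False.elim h1) | (intro h1; omega)
  · rw [show sub 3 = pts treeK3 from rfl, mem_pts]
    split_ifs <;> refine ⟨?_, ?_⟩
    all_goals first | (rintro ⟨h1, h2⟩; omega) | (intro h1; exact False.elim h1) | (intro h1; omega)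
  · rw [show sub 4 = pts treeK4 from rfl, mem_pts]
    split_ifs <;> refine ⟨?_, ?_⟩
    all_goals first | (rintro ⟨h1, h2⟩; omega) | (intro h1; exact False.elim h1) | (intro h1; omega)

theorem lab_lt (i : Fin 2058) : lab i < 5 := by
  unfold lab
  rw [ivl_eq]
  split_ifs <;> omega

theorem rootCheck : and (Nat.beq (look Data.kOrd 0) 0) (and (Nat.beq (look Data.kOrd 1) 1)
    (and (Nat.beq (look Data.kOrd 1361) 8) (and (Nat.beq (look Data.kOrd 1786) 37)
      (Nat.beq (look Data.kOrd 1922) 218)))) = true := by decide +kernel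

theorem reach_sub (j : ℕ) (hj : j < 5) (H : Subgroup (Equiv.Perm (Fin 2058)))
    (hH : ∀ w ∈ wordsK, (w.map pm).prod ∈ H) (i : Fin 2058) (hi : i ∈ sub j) :
    ∃ p ∈ H, p (root j) = i := by
  have hr := rootCheck
  simp only [Bool.and_eq_true] at hr
  obtain ⟨h0, h1, h2, h3, h4⟩ := hr
  replace h0 := Nat.eq_of_beq_eq_true h0
  replace h1 := Nat.eq_of_beq_eq_true h1
  replace h2 := Nat.eq_of_beq_eq_true h2
  replace h3 := Nat.eq_of_beq_eq_true h3
  replace h4 := Nat.eq_of_beq_eq_true h4
  interval_cases j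
  · have := reach_pts treeK0 H hH i hi
    rw [h0] at this
    exact this
  · have := reach_pts treeK1 H hH i hi
    rw [h1] at this
    exact this
  · have := reach_pts treeK2 H hH i hi
    rw [h2] at this
    exact this
  · have := reach_pts treeK3 H hH i hi
    rw [h3] at this
    exact this
  · have := reach_pts treeK4 H hH i hi
    rw [h4] at this
    exact this

theorem labCheck : allBelow 2058 (fun i => wordsK.all fun w =>
    Nat.beq (ivl (look Data.kPos (act w i))) (ivl (look Data.kPos i))) = true := by decide +kernel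

theorem lab_word {w : List Gen} (hw : w ∈ wordsK) (i : Fin 2058) : lab ((w.map pm).prod i) = lab i := by
  have h := of_allBelow labCheck i i.2
  rw [List.all_eq_true] at h
  have h1 := Nat.eq_of_beq_eq_true (h w hw)
  unfold lab
  rw [prod_apply]
  exact h1

/-- The suborbit number is invariant under every group generated by elements given by the words for `K`. -/
theorem lab_closure {p : Equiv.Perm (Fin 2058)}
    (hp : p ∈ Subgroup.closure {q | ∃ w ∈ wordsK, q = (w.map pm).prod}) : ∀ i, lab (p i) = lab i := by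
  induction hp using Subgroup.closure_induction with
  | mem q hq =>
    obtain ⟨w, hw, rfl⟩ := hq
    exact fun i => lab_word hw i
  | one => intro i; rfl
  | mul p q _ _ hp hq =>
    intro i
    rw [Equiv.Perm.mul_apply, hp, hq]
  | inv p _ hp =>
    intro i
    have := hp (p⁻¹ i)
    have h2 : p (p⁻¹ i) = i := by simp
    rw [h2] at this
    exact this.symm

theorem fix_word {w : List Gen} (hw : w ∈ wordsK) : (w.map pm).prod (0 : Fin 2058) = 0 := by
  have hK := fixK
  rw [List.all_eq_true] at hK
  exact fix_of_act (by norm_num) (Nat.eq_of_beq_eq_true (hK w hw))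

/-! ### Simplicity -/

theorem collapse {Q : Type*} [Group Q] {a b c d e f g : Q} (hb : b * b = 1) (hc : c * c = 1)
    (hd : d * d = 1) (hg : g * g = 1) (hdf : (d * f) ^ 3 = 1) (hdg : (d * g) ^ 3 = 1)
    (hbc : (b * c) ^ 3 = 1) (he : e * (f * g) ^ 2 = 1) (he2 : e * (a * b * c) ^ 3 = 1) (ha5 : a * (c * d) ^ 5 = 1)
    (h7 : d * f * g = 1) : a = 1 ∧ b = 1 ∧ c = 1 ∧ d = 1 ∧ e = 1 ∧ f = 1 ∧ g = 1 := by
  have h1 : d * f = g⁻¹ := eq_inv_of_mul_eq_one_left h7
  have h2 : (d * f) ^ 2 = 1 := by rw [h1, pow_two, ← mul_inv_rev, hg, inv_one]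
  have h3 : d * f = 1 := by
    have : (d * f) ^ 3 = (d * f) ^ 2 * (d * f) := pow_succ _ _
    rw [h2, one_mul, hdf] at this
    exact this.symm
  have hg1 : g = 1 := by rw [h3] at h7; simpa using h7
  have hd1 : d = 1 := by
    rw [hg1, mul_one, pow_succ, pow_two, hd, one_mul] at hdg
    exact hdg
  have hf1 : f = 1 := by rw [hd1, one_mul] at h3; exact h3
  have he1 : e = 1 := by rw [hf1, hg1] at he; simpa using he
  have hac : a = c := by
    rw [hd1, mul_one] at ha5
    have h5 : c ^ 5 = c := by
      have : c ^ 5 = (c * c) * (c * c) * c := by simp only [pow_succ, pow_zero, one_mul, mul_assoc]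
      rw [this, hc, one_mul, one_mul]
    rw [h5] at ha5
    have hc' : c⁻¹ = c := by rw [inv_eq_iff_mul_eq_one, hc]
    rw [← hc']
    exact eq_inv_of_mul_eq_one_left ha5
  have hb1 : b = 1 := by
    rw [he1, one_mul, hac] at he2
    have h5 : (c * b * c) ^ 3 = c * b * (c * c) * b * (c * c) * b * c := by
      simp only [pow_succ, pow_zero, one_mul, mul_assoc]
    rw [h5, hc, mul_one, mul_one] at he2
    have h6 : c * b * b * b * c = c * (b * b) * b * c := by simp only [mul_assoc]
    rw [h6, hb, mul_one] at he2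
    have hc' : c⁻¹ = c := by rw [inv_eq_iff_mul_eq_one, hc]
    have h8 : b = c⁻¹ * (c * b * c) * c⁻¹ := by simp only [mul_assoc, inv_mul_cancel_left, mul_inv_cancel, mul_one]
    rw [h8, he2, hc', mul_one, hc]
  have hc1 : c = 1 := by
    rw [hb1, one_mul, pow_succ, pow_two, hc, one_mul] at hbc
    exact hbc
  exact ⟨by rw [hac, hc1], hb1, hc1, hd1, he1, hf1, hg1⟩

theorem seven_check : good (powWord [.d, .f, .g] 7) = true := by decide +kernel

theorem seven : (pm .d * pm .f * pm .g) ^ 7 = 1 := by
  have h := of_good seven_check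
  rw [powWord_prod] at h
  simpa [mul_assoc] using h

/-- the generator as an element of the image -/
noncomputable def rg (x : Gen) : phi.range := ⟨pm x, PresentedGroup.of x, phi_of x⟩

theorem smul_def' (p : phi.range) (i : Fin 2058) : p • i = (p : Equiv.Perm (Fin 2058)) i := rfl

theorem pretransitive : MulAction.IsPretransitive phi.range (Fin 2058) := by
  have e0 : Fin.ofNat 2058 (look Data.gOrd 0) = (0 : Fin 2058) := by rw [ordG0]; rfl
  have h0 : ∀ i : Fin 2058, ∃ p : phi.range, p • (0 : Fin 2058) = i := by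
    intro i
    have hu : pts treeG = Finset.univ := by
      apply Finset.eq_univ_of_card
      rw [card_pts, Fintype.card_fin]
    have h := reach_pts treeG phi.range (fun w _ => prod_mem_range w) i (by rw [hu]; exact Finset.mem_univ i)
    rw [e0] at h
    obtain ⟨p, hp, hpi⟩ := h
    exact ⟨⟨p, hp⟩, hpi⟩
  refine ⟨fun x y => ?_⟩
  obtain ⟨p, hp⟩ := h0 x
  obtain ⟨q, hq⟩ := h0 y
  exact ⟨q * p⁻¹, by rw [mul_smul, ← hp, inv_smul_smul, hq]⟩

theorem normal_orbit (N : Subgroup phi.range) [hN : N.Normal] :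
    MulAction.orbit N (0 : Fin 2058) = {0} ∨ MulAction.orbit N (0 : Fin 2058) = Set.univ := by
  classical
  have := pretransitive
  set B : Set (Fin 2058) := MulAction.orbit N (0 : Fin 2058) with hB
  have hblock : MulAction.IsBlock phi.range B := MulAction.IsBlock.orbit_of_normal 0
  have h0 : (0 : Fin 2058) ∈ B := MulAction.mem_orbit_self 0
  have hdvd : B.ncard ∣ 2058 := by
    have := hblock.ncard_dvd_card ⟨0, h0⟩
    rwa [Nat.card_eq_fintype_card, Fintype.card_fin] at this
  -- invariance under the point stabiliser words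
  have hinv : ∀ p ∈ (phi.range ⊓ fixer 0 : Subgroup (Equiv.Perm (Fin 2058))), ∀ y ∈ B, p y ∈ B := by
    rintro p ⟨hp, hp0⟩ y ⟨n, rfl⟩
    refine ⟨⟨(⟨p, hp⟩ : phi.range) * n * (⟨p, hp⟩ : phi.range)⁻¹, hN.conj_mem n n.2 ⟨p, hp⟩⟩, ?_⟩
    show (p * ((n : phi.range) : Equiv.Perm (Fin 2058)) * p⁻¹) 0 = p (((n : phi.range) : Equiv.Perm (Fin 2058)) 0)
    rw [Equiv.Perm.mul_apply, Equiv.Perm.mul_apply]
    congr 2
    rw [Equiv.Perm.inv_eq_iff_eq]
    exact (mem_fixer.mp hp0).symm
  have hwords : ∀ w ∈ wordsK, (w.map pm).prod ∈ (phi.range ⊓ fixer 0 : Subgroup (Equiv.Perm (Fin 2058))) :=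
    fun w hw => ⟨prod_mem_range w, mem_fixer.mpr (fix_word hw)⟩
  have hall : ∀ j < 5, ∀ y ∈ B, lab y = j → ∀ z, lab z = j → z ∈ B := by
    intro j hj y hy hyj z hz
    obtain ⟨p, hp, hpy⟩ := reach_sub j hj _ hwords y ((mem_sub j hj y).mpr hyj)
    obtain ⟨q, hq, hqz⟩ := reach_sub j hj _ hwords z ((mem_sub j hj z).mpr hz)
    have h1 : root j = p⁻¹ y := by rw [← hpy]; simp
    rw [← hqz, h1]
    exact hinv q hq _ (hinv p⁻¹ (inv_mem hp) y hy)
  -- counting
  have hcount : B.ncard = ∑ j ∈ Finset.range 5, (B.toFinset.filter fun y => lab y = j).card := by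
    rw [Set.ncard_eq_toFinset_card']
    exact Finset.card_eq_sum_card_fiberwise (fun y _ => Finset.mem_coe.mpr (Finset.mem_range.mpr (lab_lt y)))
  have hpart : ∀ j < 5, (B.toFinset.filter fun y => lab y = j).card = 0 ∨
      (B.toFinset.filter fun y => lab y = j).card = siz j := by
    intro j hj
    by_cases hex : ∃ y ∈ B, lab y = j
    · right
      obtain ⟨y, hy, hyj⟩ := hex
      rw [← card_sub j]
      congr 1
      ext z
      rw [Finset.mem_filter, Set.mem_toFinset, mem_sub j hj]
      exact ⟨fun h => h.2, fun h => ⟨hall j hj y hy hyj z h, h⟩⟩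
    · left
      rw [Finset.card_eq_zero, Finset.filter_eq_empty_iff]
      intro y hy hyj
      exact hex ⟨y, Set.mem_toFinset.mp hy, hyj⟩
  have h00 : (B.toFinset.filter fun y => lab y = 0).card ≠ 0 := by
    rw [Finset.card_ne_zero]
    refine ⟨0, ?_⟩
    rw [Finset.mem_filter, Set.mem_toFinset]
    refine ⟨h0, ?_⟩
    have hr := rootCheck
    have : (0 : Fin 2058) ∈ sub 0 := by
      have h1 : (sub 0).card = 1 := card_sub 0
      rw [Finset.card_eq_one] at h1
      obtain ⟨x, hx⟩ := h1
      obtain ⟨p, hp, hpx⟩ := reach_sub 0 (by norm_num) _ hwords x (by rw [hx]; exact Finset.mem_singleton_self x)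
      have : x = 0 := by rw [← hpx]; exact mem_fixer.mp hp.2
      rw [hx, this]
      exact Finset.mem_singleton_self 0
    exact (mem_sub 0 (by norm_num) 0).mp this
  rw [Finset.sum_range_succ, Finset.sum_range_succ, Finset.sum_range_succ, Finset.sum_range_succ,
    Finset.sum_range_one] at hcount
  have p0 := hpart 0 (by norm_num)
  have p1 := hpart 1 (by norm_num)
  have p2 := hpart 2 (by norm_num)
  have p3 := hpart 3 (by norm_num)
  have p4 := hpart 4 (by norm_num)
  have s0 : siz 0 = 1 := rfl
  have s1 : siz 1 = 1360 := rfl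
  have s2 : siz 2 = 425 := rfl
  have s3 : siz 3 = 136 := rfl
  have s4 : siz 4 = 136 := rfl
  rw [s0] at p0
  rw [s1] at p1
  rw [s2] at p2
  rw [s3] at p3
  rw [s4] at p4
  have hcase : B.ncard = 1 ∨ B.ncard = 2058 := by
    obtain ⟨m, hm⟩ := hdvd
    have p0' := p0.resolve_left h00
    rw [p0'] at hcount
    rcases p1 with p1 | p1 <;> rcases p2 with p2 | p2 <;> rcases p3 with p3 | p3 <;> rcases p4 with p4 | p4 <;>
      rw [p1, p2, p3, p4] at hcount <;> rw [hcount] at hm ⊢ <;> omega
  rcases hcase with h | h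
  · left
    rw [Set.ncard_eq_one] at h
    obtain ⟨x, hx⟩ := h
    have : (0 : Fin 2058) = x := by rw [hx] at h0; exact h0
    rw [hx, this]
  · right
    apply Set.eq_of_subset_of_ncard_le (Set.subset_univ B)
    rw [Set.ncard_univ, Nat.card_eq_fintype_card, Fintype.card_fin, h]

end Cfsg.Agent.SporadicB.HePerm
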