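import Mathlib
import Cfsg.Prelude.Def_Sporadic
import Cfsg.Agent.SporadicB.HePerm.Simple

/-! The presented Held group is simple of order 4030387200 as soon as its order is at most 4030387200. -/

set_option autoImplicit false

namespace Cfsg.Agent.SporadicB.HePerm

open Cfsg.Spor Cfsg.Spor.He

/-- If the image has the right order it is simple. -/
theorem range_simple (hcard : Nat.card phi.range = 4030387200) : IsSimpleGroup phi.range := by
  classical
  have htr := pretransitive
  have hnt : Nontrivial phi.range := by
    rw [← Finite.one_lt_card_iff_nontrivial, hcard]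
    norm_num
  refine { exists_pair_ne := hnt.exists_pair_ne, eq_bot_or_eq_top_of_normal := ?_ }
  intro N hN
  rcases normal_orbit N with h | h
  · -- `N` fixes `0`, hence everything
    left
    rw [eq_bot_iff]
    intro n hn
    rw [Subgroup.mem_bot]
    have h0 : ∀ m ∈ N, m • (0 : Fin 2058) = 0 := by
      intro m hm
      have : m • (0 : Fin 2058) ∈ MulAction.orbit N (0 : Fin 2058) := ⟨⟨m, hm⟩, rfl⟩
      rw [h] at this
      exact this
    apply Subtype.ext
    apply Equiv.ext
    intro i
    obtain ⟨p, hp⟩ := MulAction.exists_smul_eq phi.range (0 : Fin 2058) i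
    have h1 : (p⁻¹ * n * p) • (0 : Fin 2058) = 0 := by
      apply h0
      have := hN.conj_mem n hn p⁻¹
      rwa [inv_inv] at this
    show n • i = i
    rw [← hp, ← mul_smul]
    rw [mul_assoc, mul_smul, inv_smul_eq_iff] at h1
    exact h1
  · -- `N` is transitive
    right
    have hN1 : 2058 ∣ Nat.card N := by
      have h1 := MulAction.card_orbit_mul_card_stabilizer_eq_card_group N (0 : Fin 2058)
      rw [← Nat.card_eq_fintype_card, ← Nat.card_eq_fintype_card, ← Nat.card_eq_fintype_card] at h1
      rw [← h1]
      apply Dvd.dvd.mul_right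
      have : Nat.card (MulAction.orbit N (0 : Fin 2058)) = 2058 := by
        rw [h, Nat.card_congr (Equiv.Set.univ (Fin 2058)), Nat.card_eq_fintype_card, Fintype.card_fin]
      rw [this]
    have hidx : Nat.card N * N.index = 4030387200 := by rw [N.card_mul_index, hcard]
    have h7 : Nat.Coprime 7 N.index := by
      rw [Nat.Prime.coprime_iff_not_dvd (by norm_num)]
      rintro ⟨m, hm⟩
      obtain ⟨l, hl⟩ := hN1
      rw [hl, hm] at hidx
      have h14406 : 14406 ∣ 4030387200 := ⟨l * m, by rw [← hidx]; ring⟩
      revert h14406
      norm_num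
    let q : phi.range →* phi.range ⧸ N := QuotientGroup.mk' N
    let x : Gen → phi.range ⧸ N := fun z => q (rg z)
    have hrel : ∀ (P : phi.range), (P : Equiv.Perm (Fin 2058)) = 1 → q P = 1 := by
      intro P hP
      have : P = 1 := Subtype.ext hP
      rw [this, map_one]
    have hsq : ∀ z : Gen, x z * x z = 1 := by
      intro z
      have := hrel (rg z * rg z) (pm_mul_self z)
      rwa [map_mul] at this
    have hdf : (x .d * x .f) ^ 3 = 1 := by
      have := hrel ((rg .d * rg .f) ^ 3) (cox_rel .d .f)
      rwa [map_pow, map_mul] at this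
    have hdg : (x .d * x .g) ^ 3 = 1 := by
      have := hrel ((rg .d * rg .g) ^ 3) (cox_rel .d .g)
      rwa [map_pow, map_mul] at this
    have hbc : (x .b * x .c) ^ 3 = 1 := by
      have := hrel ((rg .b * rg .c) ^ 3) (cox_rel .b .c)
      rwa [map_pow, map_mul] at this
    have he : x .e * (x .f * x .g) ^ 2 = 1 := by
      have := hrel (rg .e * (rg .f * rg .g) ^ 2) rel1
      rwa [map_mul, map_pow, map_mul] at this
    have he2 : x .e * (x .a * x .b * x .c) ^ 3 = 1 := by
      have := hrel (rg .e * (rg .a * rg .b * rg .c) ^ 3) rel2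
      rwa [map_mul, map_pow, map_mul, map_mul] at this
    have ha5 : x .a * (x .c * x .d) ^ 5 = 1 := by
      have := hrel (rg .a * (rg .c * rg .d) ^ 5) rel3
      rwa [map_mul, map_pow, map_mul] at this
    have h77 : x .d * x .f * x .g = 1 := by
      have h1 := hrel ((rg .d * rg .f * rg .g) ^ 7) seven
      rw [map_pow, map_mul, map_mul] at h1
      have h2 : (x .d * x .f * x .g) ^ N.index = 1 := by
        have : N.index = Nat.card (phi.range ⧸ N) := rfl
        rw [this]
        exact pow_card_eq_one'
      have h3 : orderOf (x .d * x .f * x .g) ∣ Nat.gcd 7 N.index :=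
        Nat.dvd_gcd (orderOf_dvd_of_pow_eq_one h1) (orderOf_dvd_of_pow_eq_one h2)
      rw [h7, Nat.dvd_one, orderOf_eq_one_iff] at h3
      exact h3
    obtain ⟨h1, h2, h3, h4, h5, h6, h8⟩ := collapse (hsq .b) (hsq .c) (hsq .d) (hsq .g) hdf hdg hbc he he2 ha5 h77
    have htriv : q.comp phi.rangeRestrict = 1 := by
      apply PresentedGroup.ext
      intro z
      have : q.comp phi.rangeRestrict (PresentedGroup.of z) = x z := by
        show q (phi.rangeRestrict (PresentedGroup.of z)) = q (rg z)
        have h9 : phi.rangeRestrict (PresentedGroup.of z) = rg z := Subtype.ext (phi_of z)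
        rw [h9]
      rw [this, MonoidHom.one_apply]
      cases z
      · exact h1
      · exact h2
      · exact h3
      · exact h4
      · exact h5
      · exact h6
      · exact h8
    rw [eq_top_iff]
    intro p _
    obtain ⟨g, hg⟩ := phi.rangeRestrict_surjective p
    have : q p = 1 := by
      rw [← hg]
      exact DFunLike.congr_fun htriv g
    exact (QuotientGroup.eq_one_iff p).mp this

/-- If the presented Held group has order at most 4030387200, its representation on 2058 points is faithful. -/
theorem injective_of_card_le [Finite Cfsg.Spor.He] (h : Nat.card Cfsg.Spor.He ≤ 4030387200) :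
    Function.Injective phi ∧ Nat.card Cfsg.Spor.He = 4030387200 ∧ Nat.card phi.range = 4030387200 := by
  have h1 := card_range_ge
  have h2 : Nat.card phi.range ≤ Nat.card Cfsg.Spor.He :=
    Nat.card_le_card_of_surjective phi.rangeRestrict phi.rangeRestrict_surjective
  have h3 : Nat.card phi.range = Nat.card Cfsg.Spor.He := by omega
  refine ⟨?_, by omega, by omega⟩
  have hb : Function.Bijective phi.rangeRestrict :=
    (Nat.bijective_iff_surjective_and_card phi.rangeRestrict).mpr ⟨phi.rangeRestrict_surjective, h3.symm⟩
  intro a b hab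
  exact hb.1 (Subtype.ext hab)

/-- The presented Held group is simple of the expected order if its order is at most the expected one. -/
theorem isHe_of_card_le [Finite Cfsg.Spor.He] (h : Nat.card Cfsg.Spor.He ≤ 4030387200) :
    Cfsg.IsHe Cfsg.Spor.He := by
  obtain ⟨hinj, hc, hr⟩ := injective_of_card_le h
  refine ⟨?_, hc⟩
  have h1 := range_simple hr
  let e : Cfsg.Spor.He ≃* phi.range := MonoidHom.ofInjective hinj
  have : Nontrivial Cfsg.Spor.He := e.toEquiv.nontrivial
  exact IsSimpleGroup.isSimpleGroup_of_surjective e.symm.toMonoidHom e.symm.surjective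

end Cfsg.Agent.SporadicB.HePerm
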